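import Cfsg.Agent.Lib.LatticeFix.Core
import Mathlib.RepresentationTheory.Irreducible
import Mathlib.GroupTheory.SpecificGroups.Cyclic
import Mathlib.RingTheory.Nilpotent.Lemmas
import Mathlib.LinearAlgebra.Eigenspace.Zero

/-!
# Faithful modules in the defining characteristic for a cyclic TI Sylow subgroup

If a Sylow `p`-subgroup `P` of order `q = p ^ n` is cyclic and meets its other conjugates trivially,
then a faithful irreducible module in characteristic `p` has dimension at least `q - (p - 1)` when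
`n ≥ 2`. The sum of the conjugates of a product of `u ^ i - 1` commuting with the normalizer is a
map commuting with the group, and differs from that product by a relative trace.
-/

set_option autoImplicit false

open Polynomial
open scoped Pointwise

namespace CfsgLib.CyclicTI

variable {k : Type*} [Field k] {p : ℕ} [hp : Fact p.Prime]

/-- The full geometric sum in characteristic `p` is a power of `x - 1`. -/
theorem geom_sum_prime_pow {A : Type*} [Ring A] (hA : (p : A) = 0) (n : ℕ) (x : A) :
    ∑ j ∈ Finset.range (p ^ n), x ^ j = (x - 1) ^ (p ^ n - 1) := by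
  obtain hs | hn := subsingleton_or_nontrivial A
  · exact Subsingleton.elim _ _
  haveI : CharP A p := (CharP.charP_iff_prime_eq_zero hp.out).2 hA
  let _ := ZMod.algebra A p
  have key : (∑ j ∈ Finset.range (p ^ n), (X : (ZMod p)[X]) ^ j) = (X - 1) ^ (p ^ n - 1) := by
    refine mul_right_cancel₀ (X_sub_C_ne_zero (1 : ZMod p)) ?_
    rw [map_one, geom_sum_mul, ← pow_succ,
      Nat.sub_add_cancel (Nat.one_le_pow _ _ hp.out.pos), sub_pow_char_pow, one_pow]
  have h := congrArg (Polynomial.aeval x) key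
  simpa using h

variable {V : Type*} [AddCommGroup V] [Module k V] [CharP k p]

/-- A relative trace over a cyclic group acting with small nilpotency index has small range. -/
theorem conj_sum_eq (u u' : Module.End k V) (huu : u * u' = 1) (hu'u : u' * u = 1) {n d : ℕ}
    (hd : (u - 1) ^ d = 0) (B : Module.End k V) :
    ∃ Z : Module.End k V,
      ∑ j ∈ Finset.range (p ^ n), u ^ j * B * u' ^ j = (u - 1) ^ (p ^ n - d) * Z := by
  classical
  set q := p ^ n with hq
  set L := LinearMap.mulLeft k u
  set R := LinearMap.mulRight k u'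
  have hLR : Commute L R := LinearMap.commute_mulLeft_right _ _
  have hpA : (p : Module.End k (Module.End k V)) = 0 := by
    rw [← map_natCast (algebraMap k (Module.End k (Module.End k V))), CharP.cast_eq_zero, map_zero]
  have h1 : ∑ j ∈ Finset.range q, u ^ j * B * u' ^ j = ((L * R - 1) ^ (q - 1)) B := by
    rw [← geom_sum_prime_pow hpA, LinearMap.sum_apply]
    refine Finset.sum_congr rfl fun j _ => ?_
    rw [hLR.mul_pow]
    simp [L, R, LinearMap.pow_mulLeft, LinearMap.pow_mulRight, mul_assoc]
  have h2 : L * R - 1 = (L - 1) * R + (R - 1) := by rw [sub_mul, one_mul]; abel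
  have hR1 : (R - 1) ^ d = 0 := by
    have e : R - 1 = LinearMap.mulRight k (u' - 1) := by
      ext A
      simp [R, mul_sub]
    have e2 : u' - 1 = -(u' * (u - 1)) := by rw [mul_sub, hu'u, mul_one, neg_sub]
    have hc : Commute u' (u - 1) := by
      change u' * (u - 1) = (u - 1) * u'
      rw [mul_sub, sub_mul, hu'u, huu, mul_one, one_mul]
    rw [e, LinearMap.pow_mulRight, e2, neg_pow, hc.mul_pow, hd, mul_zero, mul_zero]
    simp
  have hc : Commute ((L - 1) * R) (R - 1) :=
    ((hLR.sub_left (Commute.one_left R)).sub_right (Commute.one_right _)).mul_left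
      ((Commute.refl R).sub_right (Commute.one_right R))
  have hL1 : ∀ (a : ℕ) (W : Module.End k V), ((L - 1) ^ a) W = (u - 1) ^ a * W := by
    intro a W
    have e : L - 1 = LinearMap.mulLeft k (u - 1) := by
      ext A
      simp [L, sub_mul]
    rw [e, LinearMap.pow_mulLeft, LinearMap.mulLeft_apply]
  rw [h1, h2, hc.add_pow, LinearMap.sum_apply]
  refine ⟨∑ a ∈ Finset.range (q - 1 + 1),
    (u - 1) ^ (a - (q - d)) * ((R ^ a * (R - 1) ^ (q - 1 - a) *
      ((q - 1).choose a : Module.End k (Module.End k V))) B), ?_⟩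
  rw [Finset.mul_sum]
  refine Finset.sum_congr rfl fun a _ => ?_
  by_cases ha : d ≤ q - 1 - a
  · simp [pow_eq_zero_of_le ha hR1]
  · rw [(hLR.sub_left (Commute.one_left R)).mul_pow, mul_assoc, mul_assoc,
      ← mul_assoc (R ^ a), Module.End.mul_apply, hL1, ← mul_assoc, ← pow_add]
    congr 2
    omega

/-- A product of `u ^ i - 1` divides the corresponding power of `u - 1`. -/
theorem pow_card_eq_prod_mul {n : ℕ} (hn : n ≠ 0) (u : Module.End k V) (hu : u ^ (p ^ n) = 1)
    (I : Finset (ZMod (p ^ n))) (hI : ∀ i ∈ I, IsUnit i) :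
    ∃ C : Module.End k V, (u - 1) ^ I.card =
      aeval u (∏ i ∈ I, ((X : k[X]) ^ i.val - 1)) * C := by
  classical
  induction I using Finset.induction with
  | empty => exact ⟨1, by simp⟩
  | insert i J hi ih =>
    obtain ⟨C, hC⟩ := ih fun j hj => hI j (Finset.mem_insert_of_mem hj)
    obtain ⟨w, hw⟩ := (hI i (Finset.mem_insert_self _ _)).exists_right_inv
    have h1 : u ^ (i.val * w.val) = u := by
      have hlt : 1 < p ^ n := Nat.one_lt_pow hn hp.out.one_lt
      rw [pow_eq_pow_mod _ hu, ← ZMod.val_mul, hw, ZMod.val_one_eq_one_mod, Nat.mod_eq_of_lt hlt,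
        pow_one]
    set Y := ∑ l ∈ Finset.range w.val, (u ^ i.val) ^ l with hY
    have h2 : u - 1 = (u ^ i.val - 1) * Y := by
      rw [hY, mul_geom_sum, ← pow_mul, h1]
    refine ⟨C * Y, ?_⟩
    have hcomm : Commute (u ^ i.val - 1) (aeval u (∏ j ∈ J, ((X : k[X]) ^ j.val - 1)) * C) := by
      rw [← hC]
      exact (((Commute.refl u).pow_left _).sub_left (Commute.one_left _)).sub_right
        (Commute.one_right _) |>.pow_right _
    rw [Finset.card_insert_of_notMem hi, Finset.prod_insert hi, pow_succ, hC,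
      show aeval u (((X : k[X]) ^ i.val - 1) * ∏ j ∈ J, ((X : k[X]) ^ j.val - 1)) =
        (u ^ i.val - 1) * aeval u (∏ j ∈ J, ((X : k[X]) ^ j.val - 1)) by simp [map_mul]]
    conv_lhs => rw [h2, ← mul_assoc, ← hcomm.eq]
    simp only [mul_assoc]

/-- A nilpotent map whose `e`-th power factors through its next power has `e`-th power zero. -/
theorem pow_eq_zero_of_factor (D : Module.End k V) (hD : IsNilpotent D) {e : ℕ}
    (h : ∀ v, ∃ w, (D ^ e) v = (D ^ (e + 1)) w) : D ^ e = 0 := by
  obtain ⟨m, hm⟩ := hD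
  have key : ∀ (j : ℕ) v, ∃ w, (D ^ e) v = (D ^ (e + j)) w := by
    intro j
    induction j with
    | zero => exact fun v => ⟨v, rfl⟩
    | succ j ih =>
      intro v
      obtain ⟨w, hw⟩ := ih v
      obtain ⟨z, hz⟩ := h w
      refine ⟨z, ?_⟩
      rw [hw, add_comm e j, pow_add, Module.End.mul_apply, hz, ← Module.End.mul_apply, ← pow_add]
      congr 2
      omega
  refine LinearMap.ext fun v => ?_
  obtain ⟨w, hw⟩ := key m v
  rw [hw, pow_eq_zero_of_le (Nat.le_add_left m e) hm, LinearMap.zero_apply, LinearMap.zero_apply]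

variable {G : Type*} [Group G] [Finite G]

open scoped Classical in
/-- The bound on the dimension. -/
theorem le_finrank (P : Sylow p G) (hcyc : IsCyclic P) {n : ℕ} (hn : 2 ≤ n)
    (hPn : Nat.card P = p ^ n)
    (hTI : ∀ Q : Sylow p G, Q ≠ P → (P : Subgroup G) ⊓ (Q : Subgroup G) = ⊥)
    [FiniteDimensional k V] (ρ : Representation k G V) (hfaith : Function.Injective ρ)
    (hirr : ρ.IsIrreducible) : p ^ n - (p - 1) ≤ Module.finrank k V := by
  cases nonempty_fintype G
  have hp1 := hp.out.two_le
  set q := p ^ n with hq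
  haveI : NeZero q := ⟨(pow_pos hp.out.pos n).ne'⟩
  by_contra hlt
  push Not at hlt
  set d := Module.finrank k V with hd
  set r := q - d with hr
  have hpr : p ≤ r := by omega
  -- a generator
  obtain ⟨⟨x, hxP⟩, hgen⟩ := hcyc.exists_generator
  have hord : orderOf x = q := by
    rw [← hPn, ← orderOf_eq_card_of_forall_mem_zpowers hgen, Subgroup.orderOf_mk]
  have hP : ∀ s ∈ (P : Subgroup G), ∃ j : ZMod q, x ^ j.val = s := by
    intro s hs
    obtain ⟨j, hj⟩ := Subgroup.mem_zpowers_iff.1 (hgen ⟨s, hs⟩)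
    have hj' : x ^ j = s := congrArg Subtype.val hj
    refine ⟨(j : ZMod q), ?_⟩
    rw [← hj', ← zpow_natCast, ZMod.val_intCast, ← hord, zpow_mod_orderOf]
  have hxq : x ^ q = 1 := by rw [← hord, pow_orderOf_eq_one]
  set u := ρ x with hu
  set u' := ρ x⁻¹ with hu'
  have huu : u * u' = 1 := by rw [hu, hu', ← map_mul, mul_inv_cancel, map_one]
  have hu'u : u' * u = 1 := by rw [hu, hu', ← map_mul, inv_mul_cancel, map_one]
  have huq : u ^ q = 1 := by rw [hu, ← map_pow, ← hord, pow_orderOf_eq_one, map_one]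
  haveI : Nontrivial V := by
    by_contra hV
    rw [not_nontrivial_iff_subsingleton] at hV
    have h1 : x = 1 := hfaith (Subsingleton.elim _ _)
    rw [h1, orderOf_one] at hord
    exact (Nat.one_lt_pow (by omega : n ≠ 0) hp.out.one_lt).ne hord
  haveI : CharP (Module.End k V) p := (CharP.charP_iff_prime_eq_zero hp.out).2 (by
    rw [← map_natCast (algebraMap k (Module.End k V)), CharP.cast_eq_zero, map_zero])
  have hDnil : IsNilpotent (u - 1) := ⟨q, by
    rw [hq, sub_pow_char_pow_of_commute p n (Commute.one_right u), ← hq, huq, one_pow, sub_self]⟩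
  have hDd : (u - 1) ^ d = 0 := by
    have hch := IsNilpotent.charpoly_eq_X_pow_finrank hDnil
    have h1 := LinearMap.aeval_self_charpoly (u - 1)
    rw [hch, map_pow, aeval_X] at h1
    exact h1
  -- the exponents of the normalizer
  set N := Subgroup.normalizer ((P : Subgroup G) : Set G) with hN
  have hconjP : ∀ g ∈ N, g * x * g⁻¹ ∈ (P : Subgroup G) :=
    fun g hg => (Subgroup.mem_normalizer_iff.1 hg x).1 hxP
  choose ι hι using fun g : N => hP _ (hconjP g g.2)
  have hιinj : ∀ a b : ZMod q, x ^ a.val = x ^ b.val → a = b := by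
    intro a b hab
    rw [pow_eq_pow_iff_modEq, hord] at hab
    have := (ZMod.natCast_eq_natCast_iff _ _ _).2 hab
    simpa using this
  have hιone : ι 1 = 1 := hιinj _ _ (by
    rw [hι, OneMemClass.coe_one, one_mul, inv_one, mul_one, ZMod.val_one_eq_one_mod,
      Nat.mod_eq_of_lt (Nat.one_lt_pow (by omega : n ≠ 0) hp.out.one_lt), pow_one])
  have hιmul : ∀ g h, ι (g * h) = ι g * ι h := fun g h => hιinj _ _ (by
    rw [hι, ZMod.val_mul, ← pow_eq_pow_mod _ hxq, pow_mul, hι, conj_pow, hι, Subgroup.coe_mul]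
    simp [mul_assoc])
  let θ₀ : N →* ZMod q := { toFun := ι, map_one' := hιone, map_mul' := hιmul }
  let θ : N →* (ZMod q)ˣ := θ₀.toHomUnits
  set I : Finset (ZMod q) := Finset.univ.image fun g : N => ι g with hI
  have hI1 : (1 : ZMod q) ∈ I := Finset.mem_image.2 ⟨1, Finset.mem_univ _, hιone⟩
  have hIunit : ∀ i ∈ I, IsUnit i := by
    intro i hi
    obtain ⟨g, -, rfl⟩ := Finset.mem_image.1 hi
    exact ⟨θ g, rfl⟩
  have hIcard : I.card ≤ p - 1 := by
    have e1 : I.card = Nat.card θ.range := by
      have : (θ.range : Set (ZMod q)ˣ) = Set.range θ := rfl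
      rw [← SetLike.coe_sort_coe, this, Nat.card_coe_set_eq,
        ← Set.ncard_image_of_injective _ Units.val_injective, ← Set.range_comp,
        ← Set.ncard_coe_finset, hI, Finset.coe_image, Finset.coe_univ, Set.image_univ]
      rfl
    have hker : (P : Subgroup G).subgroupOf N ≤ θ.ker := by
      intro g hg
      refine Units.ext (hιinj _ _ ?_)
      change x ^ (ι g).val = x ^ ((1 : ZMod q)).val
      rw [← hιone, hι, hι, OneMemClass.coe_one, one_mul, inv_one, mul_one]
      have : Commute (g : G) x := by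
        haveI := hcyc
        letI := IsCyclic.commGroup (α := (P : Subgroup G))
        exact congrArg Subtype.val (mul_comm (⟨g, hg⟩ : (P : Subgroup G)) ⟨x, hxP⟩)
      rw [this.eq, mul_inv_cancel_right]
    have hidx : ¬ p ∣ θ.ker.index := by
      intro hdvd
      have h1 : θ.ker.index ∣ ((P : Subgroup G).subgroupOf N).index :=
        Subgroup.index_dvd_of_le hker
      have h2 : ((P : Subgroup G).subgroupOf N).index ∣ (P : Subgroup G).index :=
        Subgroup.relIndex_dvd_index_of_le (Subgroup.le_normalizer)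
      exact P.not_dvd_index (hdvd.trans (h1.trans h2))
    rw [Subgroup.index_ker] at hidx
    have h3 : Nat.card θ.range ∣ Nat.card (ZMod q)ˣ := Subgroup.card_subgroup_dvd_card _
    rw [Nat.card_eq_fintype_card (α := (ZMod q)ˣ), ZMod.card_units_eq_totient,
      show Nat.totient q = p ^ (n - 1) * (p - 1) from
        Nat.totient_prime_pow hp.out (by omega : 0 < n)] at h3
    have h4 := (Nat.Coprime.pow_right (n - 1)
      ((Nat.coprime_comm.1 (hp.out.coprime_iff_not_dvd.2 hidx)))).dvd_of_dvd_mul_left h3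
    rw [e1]
    exact Nat.le_of_dvd (by omega) h4
  -- the operator commuting with the normalizer
  set A : Module.End k V := aeval u (∏ i ∈ I, ((X : k[X]) ^ i.val - 1)) with hA
  obtain ⟨C, hC⟩ := pow_card_eq_prod_mul (by omega : n ≠ 0) u huq I hIunit
  rw [← hA] at hC
  have hAN : ∀ g : N, ρ g * A * ρ (g : G)⁻¹ = A := by
    intro g
    let c : Module.End k V →ₐ[k] Module.End k V := AlgHom.ofLinearMap
      (LinearMap.mulLeft k (ρ g) * LinearMap.mulRight k (ρ (g : G)⁻¹))
      (by simp [← map_mul])
      (fun a b => by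
        simp only [Module.End.mul_apply, LinearMap.mulLeft_apply, LinearMap.mulRight_apply]
        rw [← mul_one a]
        conv_lhs => rw [← map_one ρ, ← inv_mul_cancel (g : G), map_mul]
        simp only [mul_assoc, mul_one])
    have hc : c u = u ^ (ι g).val := by
      change ρ g * (u * ρ (g : G)⁻¹) = _
      rw [hu, ← map_pow, hι, map_mul, map_mul, mul_assoc]
    have h1 : ρ g * A * ρ (g : G)⁻¹ = c A := by simp [c, mul_assoc]
    rw [h1, hA, ← aeval_algHom_apply, hc]
    have h2 : ∀ J : Finset (ZMod q), aeval (u ^ (ι g).val) (∏ i ∈ J, ((X : k[X]) ^ i.val - 1)) =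
        aeval u (∏ i ∈ J, ((X : k[X]) ^ (ι g * i).val - 1)) := by
      intro J
      induction J using Finset.induction with
      | empty => simp
      | insert i J hi ih =>
        rw [Finset.prod_insert hi, Finset.prod_insert hi, map_mul, map_mul, ih]
        congr 1
        simp only [map_sub, map_pow, aeval_X, map_one, ← pow_mul, ZMod.val_mul]
        rw [pow_eq_pow_mod _ huq]
    rw [h2]
    refine congrArg _ (Finset.prod_bij (fun i _ => ι g * i) ?_ ?_ ?_ ?_)
    · intro i hi
      obtain ⟨h, -, rfl⟩ := Finset.mem_image.1 hi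
      exact Finset.mem_image.2 ⟨g * h, Finset.mem_univ _, hιmul g h⟩
    · intro a _ b _ hab
      exact (show IsUnit (ι g) from ⟨θ g, rfl⟩).mul_left_cancel hab
    · intro i hi
      obtain ⟨h, -, rfl⟩ := Finset.mem_image.1 hi
      refine ⟨ι (g⁻¹ * h), Finset.mem_image.2 ⟨_, Finset.mem_univ _, rfl⟩, ?_⟩
      rw [← hιmul, mul_inv_cancel_left]
    · exact fun i _ => rfl
  -- its sum over the conjugates
  let F : G ⧸ N → Module.End k V := fun c => ρ c.out * A * ρ c.out⁻¹
  have hF : ∀ (g : G) (c : G ⧸ N), F (g • c) = ρ g * F c * ρ g⁻¹ := by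
    intro g c
    simp only [F]
    have : (g • c) = ((g * c.out : G) : G ⧸ N) := by
      conv_lhs => rw [← c.out_eq']
      rfl
    rw [this]
    obtain ⟨m, hm⟩ := QuotientGroup.mk_out_eq_mul N (g * c.out)
    rw [hm]
    conv_lhs => rw [map_mul ρ (g * c.out), mul_inv_rev, map_mul ρ (m : G)⁻¹]
    rw [show ρ (g * c.out) * ρ m * A * (ρ (m : G)⁻¹ * ρ (g * c.out)⁻¹) =
        ρ (g * c.out) * (ρ m * A * ρ (m : G)⁻¹) * ρ (g * c.out)⁻¹ by simp only [mul_assoc],
      hAN, mul_inv_rev, map_mul, map_mul]
    simp only [mul_assoc]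
  have hone : F ((1 : G) : G ⧸ N) = A := by
    obtain ⟨m, hm⟩ := QuotientGroup.mk_out_eq_mul N (1 : G)
    simp only [F]
    rw [hm, one_mul]
    exact hAN m
  have hfree : ∀ c : G ⧸ N, c ≠ ((1 : G) : G ⧸ N) → ∀ s : (P : Subgroup G), s • c = c →
      s = 1 := by
    intro c hc s hs
    induction c using QuotientGroup.induction_on with
    | H g =>
      have h1 : g⁻¹ * (s : G) * g ∈ N := by
        have h2 : (((s : G) * g : G) : G ⧸ N) = (g : G ⧸ N) := hs
        simpa [mul_assoc] using QuotientGroup.eq.1 h2.symm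
      have h2 : g⁻¹ * (s : G) * g ∈ (P : Subgroup G) := by
        refine LatticeFix.mem_of_pElem_normalizer P h1 ⟨n, ?_⟩
        have h4 : (s : G) ^ q = 1 := by
          have h := congrArg Subtype.val (pow_card_eq_one' (x := s))
          rwa [hPn] at h
        rw [show g⁻¹ * (s : G) * g = g⁻¹ * (s : G) * (g⁻¹)⁻¹ by rw [inv_inv], conj_pow, ← hq, h4]
        simp
      have hne : g • P ≠ P := fun e => hc (QuotientGroup.eq.2 (by
        have e' : g⁻¹ ∈ N := N.inv_mem (Sylow.smul_eq_iff_mem_normalizer.1 e)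
        simpa using e'))
      have h3 : (s : G) ∈ (P : Subgroup G) ⊓ ((g • P : Sylow p G) : Subgroup G) :=
        ⟨s.2, by
          change (s : G) ∈ MulAut.conj g • (P : Subgroup G)
          rw [Subgroup.mem_pointwise_smul_iff_inv_smul_mem]
          simpa [MulAut.smul_def, MulAut.inv_def, MulAut.conj_symm_apply] using h2⟩
      rw [hTI _ hne, Subgroup.mem_bot] at h3
      exact Subtype.ext h3
  let act : MulAction (P : Subgroup G) {c : G ⧸ N // c ≠ ((1 : G) : G ⧸ N)} :=
    { smul := fun s c => ⟨(s : G) • c.1, fun e => c.2 (by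
        have hsN : ((s : G)⁻¹ : G) ∈ N :=
          Subgroup.le_normalizer ((P : Subgroup G).inv_mem s.2)
        rw [← inv_smul_smul (s : G) c.1, e]
        exact QuotientGroup.eq.2 (by simpa using hsN))⟩
      one_smul := fun c => Subtype.ext (one_smul G c.1)
      mul_smul := fun s t c => Subtype.ext (mul_smul (s : G) (t : G) c.1) }
  set T := ∑ c, F c with hT
  obtain ⟨Z, hZ⟩ : ∃ Z, T = A + (u - 1) ^ r * Z := by
    let Ω := Quotient (MulAction.orbitRel (P : Subgroup G)
      {c : G ⧸ N // c ≠ ((1 : G) : G ⧸ N)})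
    let e : Ω × (P : Subgroup G) → {c : G ⧸ N // c ≠ ((1 : G) : G ⧸ N)} :=
      fun z => z.2 • z.1.out
    have he : Function.Bijective e := by
      constructor
      · rintro ⟨a, s⟩ ⟨b, t⟩ h
        simp only [e] at h
        have hab : a = b := by
          rw [← a.out_eq, ← b.out_eq]
          refine Quotient.sound ⟨s⁻¹ * t, ?_⟩
          change (s⁻¹ * t) • b.out = a.out
          rw [mul_smul, ← h, inv_smul_smul]
        subst hab
        have h1 : (t⁻¹ * s) • a.out = a.out := by
          rw [mul_smul]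
          exact inv_smul_eq_iff.2 h
        have := hfree a.out.1 a.out.2 (t⁻¹ * s) (congrArg Subtype.val h1)
        rw [inv_mul_eq_one.1 this]
      · intro c
        obtain ⟨s, hs⟩ := Quotient.mk_out (s := MulAction.orbitRel (P : Subgroup G)
          {c : G ⧸ N // c ≠ ((1 : G) : G ⧸ N)}) c
        exact ⟨(⟦c⟧, s⁻¹), by simp only [e]; rw [← hs]; exact inv_smul_smul s c⟩
    have horbit : ∀ a : Ω, ∃ Z, ∑ s : (P : Subgroup G), F (e (a, s)).1 = (u - 1) ^ r * Z := by
      intro a
      obtain ⟨Z, hZ⟩ := conj_sum_eq (p := p) u u' huu hu'u (n := n) hDd (F a.out.1)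
      refine ⟨Z, hZ ▸ ?_⟩
      refine (Finset.sum_bij (fun j _ => (⟨x ^ j, (P : Subgroup G).pow_mem hxP j⟩ :
        (P : Subgroup G))) (fun j _ => Finset.mem_univ _) ?_ ?_ ?_).symm
      · intro i hi j hj hij
        exact pow_injOn_Iio_orderOf (by rw [Set.mem_Iio, hord]; exact Finset.mem_range.1 hi)
          (by rw [Set.mem_Iio, hord]; exact Finset.mem_range.1 hj) (congrArg Subtype.val hij)
      · intro s _
        obtain ⟨j, hj⟩ := hP _ s.2
        exact ⟨j.val, Finset.mem_range.2 (ZMod.val_lt j), Subtype.ext hj⟩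
      · intro j _
        change _ = F ((x ^ j : G) • a.out.1)
        rw [hF, hu, hu', map_pow, ← inv_pow, map_pow]
    choose Z hZ using horbit
    refine ⟨∑ a, Z a, ?_⟩
    rw [hT, Fintype.sum_eq_add_sum_subtype_ne F ((1 : G) : G ⧸ N), hone,
      ← (Equiv.ofBijective e he).sum_comp, Fintype.sum_prod_type, Finset.mul_sum]
    congr 1
    exact Finset.sum_congr rfl fun a _ => hZ a
  have hTG : ∀ g v, T (ρ g v) = ρ g (T v) := by
    intro g v
    have h1 : ρ g * T * ρ g⁻¹ = T := by
      rw [hT, Finset.mul_sum, Finset.sum_mul]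
      exact Fintype.sum_equiv (MulAction.toPerm g) _ _ fun c => (hF g c).symm
    conv_rhs => rw [← Module.End.mul_apply, ← mul_one (ρ g * T), ← map_one ρ, ← inv_mul_cancel g,
      map_mul, ← mul_assoc, h1, Module.End.mul_apply]
  -- `T` is not surjective
  obtain ⟨Y, hY⟩ : ∃ Y, A = (u - 1) * Y := by
    refine ⟨aeval u (∏ i ∈ I.erase 1, ((X : k[X]) ^ i.val - 1)), ?_⟩
    rw [hA, ← Finset.mul_prod_erase I _ hI1, map_mul, ZMod.val_one_eq_one_mod,
      Nat.mod_eq_of_lt (Nat.one_lt_pow (by omega : n ≠ 0) hp.out.one_lt)]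
    simp
  have hT0 : T = 0 := by
    rcases Representation.IsIrreducible.bijective_or_eq_zero
      (LinearMap.intertwiningMap_of_isIntertwiningMap ρ ρ T hTG) with hb | h0
    · exfalso
      have hsurj : Function.Surjective ⇑(u - 1 : Module.End k V) := by
        intro w
        obtain ⟨v, hv⟩ := hb.2 w
        refine ⟨Y v + ((u - 1) ^ (r - 1)) (Z v), ?_⟩
        rw [← hv, map_add]
        change _ = T v
        rw [hZ, LinearMap.add_apply, hY, Module.End.mul_apply, Module.End.mul_apply,
          ← Module.End.mul_apply (u - 1) ((u - 1) ^ (r - 1)), ← pow_succ',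
          Nat.sub_add_cancel (by omega : 1 ≤ r)]
      obtain ⟨m, hm⟩ := hDnil
      have hsm : Function.Surjective ⇑((u - 1 : Module.End k V) ^ m) := by
        rw [Module.End.coe_pow]
        exact hsurj.iterate m
      obtain ⟨w, hw⟩ := exists_ne (0 : V)
      obtain ⟨v, hv⟩ := hsm w
      rw [hm, LinearMap.zero_apply] at hv
      exact hw hv.symm
    · exact LinearMap.ext fun v => DFunLike.congr_fun h0 v
  -- conclusion
  have hDI : (u - 1) ^ I.card = 0 := by
    refine pow_eq_zero_of_factor _ hDnil fun v => ?_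
    refine ⟨((u - 1) ^ (r - (I.card + 1))) (-(Z (C v))), ?_⟩
    rw [← Module.End.mul_apply ((u - 1) ^ (I.card + 1)), ← pow_add,
      Nat.add_sub_cancel' (by omega : I.card + 1 ≤ r), map_neg, hC]
    have h1 := LinearMap.congr_fun hZ (C v)
    rw [hT0, LinearMap.zero_apply, LinearMap.add_apply, Module.End.mul_apply] at h1
    rw [Module.End.mul_apply]
    exact eq_neg_of_add_eq_zero_left h1.symm
  have hup : u ^ p = 1 := by
    have := pow_eq_zero_of_le (show I.card ≤ p by omega) hDI
    rwa [sub_pow_char_of_commute p (Commute.one_right u), one_pow, sub_eq_zero] at this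
  rw [hu, ← map_pow, ← map_one ρ] at hup
  have h5 := Nat.le_of_dvd hp.out.pos (hord ▸ orderOf_dvd_of_pow_eq_one (hfaith hup))
  have h6 : p ^ 2 ≤ q := Nat.pow_le_pow_right hp.out.pos hn
  nlinarith

end CfsgLib.CyclicTI
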